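import Cfsg.Agent.L0.CosetChain

/-! Generated coset table certificate. -/

set_option autoImplicit false
set_option maxRecDepth 100000

namespace Cfsg.Agent.L0.HeTc3

noncomputable def t0 : BT := .leaf (nat_lit 0x15afe468016d4fc00002cc8c03001db14300001b8054580148cfa00002268a02001b694100001120369002245880000004412080082000)

noncomputable def tree : BT := t0

noncomputable def row : ℕ → ℕ := rowOf tree (nat_lit 3) (nat_lit 7) (nat_lit 76) (nat_lit 0xfffffffffffffffffff)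

noncomputable def cols : List Col := [⟨nat_lit 13, nat_lit 1, [([nat_lit 31, nat_lit 13, nat_lit 31], nat_lit 0), ([nat_lit 40, nat_lit 13, nat_lit 40], nat_lit 0), ([nat_lit 49, nat_lit 13, nat_lit 49], nat_lit 0)]⟩,
  ⟨nat_lit 31, nat_lit 1, [([nat_lit 31], nat_lit 0), ([nat_lit 49, nat_lit 31, nat_lit 49], nat_lit 0)]⟩,
  ⟨nat_lit 40, nat_lit 1, [([nat_lit 40], nat_lit 0), ([nat_lit 31, nat_lit 40, nat_lit 31, nat_lit 40, nat_lit 31, nat_lit 40, nat_lit 31, nat_lit 40, nat_lit 31, nat_lit 13], nat_lit 0)]⟩,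
  ⟨nat_lit 49, nat_lit 0, [([nat_lit 49], nat_lit 0), ([nat_lit 31, nat_lit 49, nat_lit 31], nat_lit 0), ([nat_lit 40, nat_lit 49, nat_lit 40, nat_lit 49, nat_lit 40], nat_lit 0), ([nat_lit 31, nat_lit 40, nat_lit 49, nat_lit 31, nat_lit 40, nat_lit 49, nat_lit 31, nat_lit 40, nat_lit 49, nat_lit 31, nat_lit 40, nat_lit 49, nat_lit 31, nat_lit 40], nat_lit 0)]⟩]

noncomputable def erots : List (List ℕ × ℕ) := []

noncomputable def gens : List ℕ := [nat_lit 13, nat_lit 31, nat_lit 40, nat_lit 49]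

noncomputable def chk : ℕ → Bool := chkRow0 row (nat_lit 6) (nat_lit 0x7) (nat_lit 0x38) (nat_lit 6) (nat_lit 0x7) (nat_lit 0) (nat_lit 0x7) (nat_lit 3) (nat_lit 0x7f) (nat_lit 0x1c00) [] cols gens

theorem b0 : allR chk 3 0 = true := by decide +kernel

noncomputable def T : CT := ⟨row, nat_lit 6, nat_lit 6, nat_lit 0x7, nat_lit 0x38, nat_lit 6, nat_lit 0x7, nat_lit 0, nat_lit 0x7, nat_lit 3, nat_lit 0x7f, nat_lit 0x1c00, nat_lit 76, nat_lit 76, nat_lit 0, nat_lit 15, [], cols, erots, gens⟩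

theorem all : ∀ c < 6, chk c = true := fun c hc =>
  allR_glue (d := 3) (n := 1) (forall_lt_succ' forall_lt_zero' b0) c (lt_of_lt_of_le hc (by norm_num))

/-- the relators used -/
def R : List (List ℕ) := [[nat_lit 2, nat_lit 2],
  [nat_lit 3, nat_lit 3],
  [nat_lit 4, nat_lit 4],
  [nat_lit 0, nat_lit 2, nat_lit 0, nat_lit 2],
  [nat_lit 0, nat_lit 3, nat_lit 0, nat_lit 3],
  [nat_lit 0, nat_lit 4, nat_lit 0, nat_lit 4],
  [nat_lit 2, nat_lit 4, nat_lit 2, nat_lit 4],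
  [nat_lit 3, nat_lit 4, nat_lit 3, nat_lit 4, nat_lit 3, nat_lit 4],
  [nat_lit 0, nat_lit 3, nat_lit 2, nat_lit 3, nat_lit 2, nat_lit 3, nat_lit 2, nat_lit 3, nat_lit 2, nat_lit 3, nat_lit 2],
  [nat_lit 2, nat_lit 3, nat_lit 4, nat_lit 2, nat_lit 3, nat_lit 4, nat_lit 2, nat_lit 3, nat_lit 4, nat_lit 2, nat_lit 3, nat_lit 4, nat_lit 2, nat_lit 3, nat_lit 4]]

theorem cert : Cert T (R.map fun r => (r, 0)) ([0, 2, 3].map fun y => (y, 0)) 13 9 [0, 2, 3, 4] :=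
  ⟨by decide +kernel, ⟨[[(3, 0), (4, 0), (5, 0)], [(0, 0), (6, 0)], [(1, 0), (8, 1)], [(2, 0), (6, 1), (7, 1), (9, 2)]], [], by decide +kernel⟩, by decide +kernel, Or.inl ⟨rfl, all⟩⟩

theorem bound {Γ : Type*} [Group Γ] {x : ℕ → Γ} (hR : ∀ r ∈ R, ev x r = 1) {n : ℕ}
    (h : CardLe x [0, 2, 3] n) : CardLe x [0, 2, 3, 4] (6 * n) :=
  cert.cardLe rfl hR h

end Cfsg.Agent.L0.HeTc3
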