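import Cfsg.Agent.L0.Cox
import Cfsg.Prelude.Def_Spor_He
import Cfsg.Agent.L0.He.Act
import Cfsg.Agent.L0.He.Der0
import Cfsg.Agent.L0.He.Tc5
import Cfsg.Agent.L0.He.Tc4
import Cfsg.Agent.L0.He.Tc3
import Cfsg.Agent.L0.He.Tc2
import Cfsg.Agent.L0.He.Tc1

/-! The presented group He: order bound and permutation action. -/

set_option autoImplicit false
set_option maxRecDepth 100000

namespace Cfsg.Agent.L0.HeG

open Cfsg.Spor

/-- letter of a generator -/
def idx : He.Gen → ℕ
  | .a => 0
  | .b => 1
  | .c => 2
  | .d => 3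
  | .e => 4
  | .f => 5
  | .g => 6

/-- letter of the inverse of a generator -/
def iv : He.Gen → ℕ
  | .a => 0
  | .b => 1
  | .c => 2
  | .d => 3
  | .e => 4
  | .f => 5
  | .g => 6

/-- all generators -/
def all : List He.Gen := [.a, .b, .c, .d, .e, .f, .g]

/-- the letters -/
def x (i : ℕ) : He := ([PresentedGroup.of .a, PresentedGroup.of .b, PresentedGroup.of .c, PresentedGroup.of .d, PresentedGroup.of .e, PresentedGroup.of .f, PresentedGroup.of .g] : List He).getD i 1

theorem hall : ∀ a, a ∈ all := by intro a; cases a <;> decide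

theorem hx : ∀ a, x (idx a) = PresentedGroup.of a := by intro a; cases a <;> rfl

theorem hiv : ∀ a, x (iv a) = (PresentedGroup.of a)⁻¹ := by
  intro a; cases a <;> first | exact cox_inv (by decide) | rfl

/-- the defining relators -/
def R0 : List (List ℕ) := coxR idx iv He.edges He.extra all

theorem rel0 : ∀ r ∈ R0, ev x r = 1 := cox_rel hx hiv

theorem rel1 : ∀ r ∈ HeDer0.U ++ R0, ev x r = 1 := fun r hr => (List.mem_append.mp hr).elim
  (fun h => eq_one_of_mem_genL_nil (HeDer0.mem (rel_sub rel0 (by decide +kernel)) r h)) (rel0 r)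

/-- relators known so far -/
def R1 : List (List ℕ) := HeDer0.U ++ R0

theorem gen_top : genL x [0, 1, 2, 3, 4, 5, 6] = ⊤ := cox_genL hx (by intro a; cases a <;> decide)

theorem card_le : Finite He ∧ Nat.card He ≤ 4030387200 := by
  have := (HeTc1.bound (rel_sub (R := R1) rel1 (by decide +kernel))
    (HeTc2.bound (rel_sub (R := R1) rel1 (by decide +kernel))
    (HeTc3.bound (rel_sub (R := R1) rel1 (by decide +kernel))
    (HeTc4.bound (rel_sub (R := R1) rel1 (by decide +kernel))
    (HeTc5.bound (rel_sub (R := R1) rel1 (by decide +kernel))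
    (cardLe_nil x)))))).top gen_top
  simpa using this

theorem exists_act : ∃ A : RAct He 2058, A.Tab x 7 HeAct.T :=
  exists_ract_cox (R := HeAct.R) hall hx hiv (by decide +kernel) (by decide +kernel)
    (by decide +kernel) (by decide +kernel) le_rfl HeAct.all

end Cfsg.Agent.L0.HeG
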